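import Mathlib
import Groth.Prelude.Def_FDesc
import Groth.Agent.Lib.Helper4.UniComp1
import Groth.Agent.Lib.Helper4.IrrCompDomain1
import Groth.Agent.S2531

/-!
# Geometric pointwise integrality and the numbers of irreducible / connected components (helper7)
-/

set_option linter.style.haveILetI false
set_option linter.unusedVariables false
set_option linter.unusedSectionVars false
set_option autoImplicit false
set_option backward.isDefEq.respectTransparency.types false
set_option synthInstance.maxHeartbeats 400000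
set_option maxHeartbeats 1600000

universe u

open AlgebraicGeometry CategoryTheory CategoryTheory.Limits TopologicalSpace TensorProduct

namespace Groth.Agent.Helper7.IrrConn

section Top

variable {α : Type*} [TopologicalSpace α]

/-- finitely many pairwise disjoint irreducible components are clopen -/
theorem isClopen_of_disjoint (hfin : (irreducibleComponents α).Finite)
    (huniq : ∀ x : α, ∀ Z ∈ irreducibleComponents α, ∀ Z' ∈ irreducibleComponents α,
      x ∈ Z → x ∈ Z' → Z = Z')
    (Z : Set α) (hZ : Z ∈ irreducibleComponents α) : IsClopen Z := by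
  refine ⟨isClosed_of_mem_irreducibleComponents Z hZ, ?_⟩
  have hWc : IsClosed (⋃₀ ((irreducibleComponents α) \ {Z})) := by
    rw [Set.sUnion_eq_biUnion]
    apply Set.Finite.isClosed_biUnion (hfin.subset Set.sdiff_subset)
    intro Z' hZ'
    exact isClosed_of_mem_irreducibleComponents Z' hZ'.1
  have hZW : Z = (⋃₀ ((irreducibleComponents α) \ {Z}))ᶜ := by
    ext x
    constructor
    · rintro hx ⟨Z', ⟨hZ', hne⟩, hxZ'⟩
      exact hne (huniq x Z' hZ' Z hZ hxZ' hx)
    · intro hx
      by_contra hxZ
      apply hx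
      refine ⟨irreducibleComponent x, ⟨irreducibleComponent_mem_irreducibleComponents x, ?_⟩,
        mem_irreducibleComponent⟩
      intro h
      rw [Set.mem_singleton_iff] at h
      exact hxZ (h ▸ mem_irreducibleComponent)
  rw [hZW]
  exact hWc.isOpen_compl

theorem eq_connectedComponent (hfin : (irreducibleComponents α).Finite)
    (huniq : ∀ x : α, ∀ Z ∈ irreducibleComponents α, ∀ Z' ∈ irreducibleComponents α,
      x ∈ Z → x ∈ Z' → Z = Z')
    (Z : Set α) (hZ : Z ∈ irreducibleComponents α) (x : α) (hx : x ∈ Z) :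
    Z = connectedComponent x := by
  have hcl := isClopen_of_disjoint hfin huniq Z hZ
  refine le_antisymm ?_ (hcl.connectedComponent_subset hx)
  exact hZ.1.isConnected.isPreconnected.subset_connectedComponent hx

/-- pairwise disjoint irreducible components: the numbers of irreducible and connected
components agree -/
theorem card_eq_of_disjoint (hfin : (irreducibleComponents α).Finite)
    (huniq : ∀ x : α, ∀ Z ∈ irreducibleComponents α, ∀ Z' ∈ irreducibleComponents α,
      x ∈ Z → x ∈ Z' → Z = Z') :
    Nat.card ↥(irreducibleComponents α) = Nat.card (ConnectedComponents α) := by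
  have hne : ∀ Z : ↥(irreducibleComponents α), ∃ x, x ∈ Z.1 := fun Z => Z.2.1.1
  choose pt hpt using hne
  apply Nat.card_congr
  refine Equiv.ofBijective (fun Z => (pt Z : ConnectedComponents α)) ⟨?_, ?_⟩
  · intro Z Z' h
    rw [ConnectedComponents.coe_eq_coe] at h
    apply Subtype.ext
    rw [eq_connectedComponent hfin huniq Z.1 Z.2 (pt Z) (hpt Z),
      eq_connectedComponent hfin huniq Z'.1 Z'.2 (pt Z') (hpt Z'), h]
  · intro c
    obtain ⟨y, rfl⟩ := ConnectedComponents.surjective_coe c
    refine ⟨⟨irreducibleComponent y, irreducibleComponent_mem_irreducibleComponents y⟩, ?_⟩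
    rw [ConnectedComponents.coe_eq_coe]
    have h1 := eq_connectedComponent hfin huniq (irreducibleComponent y)
      (irreducibleComponent_mem_irreducibleComponents y) y mem_irreducibleComponent
    have h2 : pt ⟨irreducibleComponent y, irreducibleComponent_mem_irreducibleComponents y⟩ ∈
        connectedComponent y := by
      rw [← h1]
      exact hpt ⟨irreducibleComponent y, irreducibleComponent_mem_irreducibleComponents y⟩
    exact (connectedComponent_eq h2).symm

/-- equal finite numbers of irreducible and connected components: connected components are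
irreducible -/
theorem connectedComponent_eq_irreducibleComponent (hfin : (irreducibleComponents α).Finite)
    (hcard : Nat.card ↥(irreducibleComponents α) = Nat.card (ConnectedComponents α)) (x : α) :
    connectedComponent x = irreducibleComponent x := by
  haveI : Finite ↥(irreducibleComponents α) := hfin.to_subtype
  have hne : ∀ Z : ↥(irreducibleComponents α), ∃ x, x ∈ Z.1 := fun Z => Z.2.1.1
  choose pt hpt using hne
  let Ψ : ↥(irreducibleComponents α) → ConnectedComponents α :=
    fun Z => (pt Z : ConnectedComponents α)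
  have hΨ : ∀ (Z : ↥(irreducibleComponents α)) (y : α), y ∈ Z.1 →
      Ψ Z = (y : ConnectedComponents α) := by
    intro Z y hy
    show (pt Z : ConnectedComponents α) = y
    rw [ConnectedComponents.coe_eq_coe]
    have h1 : Z.1 ⊆ connectedComponent y :=
      Z.2.1.isConnected.isPreconnected.subset_connectedComponent hy
    exact (connectedComponent_eq (h1 (hpt Z))).symm
  have hsurj : Function.Surjective Ψ := by
    intro c
    obtain ⟨y, rfl⟩ := ConnectedComponents.surjective_coe c
    exact ⟨⟨irreducibleComponent y, irreducibleComponent_mem_irreducibleComponents y⟩,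
      hΨ _ y mem_irreducibleComponent⟩
  haveI : Finite (ConnectedComponents α) := Finite.of_surjective Ψ hsurj
  obtain ⟨e⟩ := Finite.card_eq.mp hcard
  have hinj : Function.Injective Ψ := (Finite.injective_iff_surjective_of_equiv e).mpr hsurj
  apply Set.Subset.antisymm
  · intro y hy
    have h1 : Ψ ⟨irreducibleComponent y, irreducibleComponent_mem_irreducibleComponents y⟩ =
        Ψ ⟨irreducibleComponent x, irreducibleComponent_mem_irreducibleComponents x⟩ := by
      rw [hΨ _ y mem_irreducibleComponent, hΨ _ x mem_irreducibleComponent,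
        ConnectedComponents.coe_eq_coe]
      exact (connectedComponent_eq hy).symm
    have h2 := congrArg Subtype.val (hinj h1)
    have h3 : irreducibleComponent y = irreducibleComponent x := h2
    rw [← h3]
    exact mem_irreducibleComponent
  · exact isIrreducible_irreducibleComponent.isConnected.isPreconnected.subset_connectedComponent
      mem_irreducibleComponent

theorem uniq_of_card_eq (hfin : (irreducibleComponents α).Finite)
    (hcard : Nat.card ↥(irreducibleComponents α) = Nat.card (ConnectedComponents α)) :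
    ∀ x : α, ∀ Z ∈ irreducibleComponents α, ∀ Z' ∈ irreducibleComponents α,
      x ∈ Z → x ∈ Z' → Z = Z' := by
  have key : ∀ x : α, ∀ Z ∈ irreducibleComponents α, x ∈ Z → Z = irreducibleComponent x := by
    intro x Z hZ hx
    have h1 : Z ⊆ irreducibleComponent x := by
      rw [← connectedComponent_eq_irreducibleComponent hfin hcard x]
      exact hZ.1.isConnected.isPreconnected.subset_connectedComponent hx
    exact le_antisymm h1 (hZ.2 isIrreducible_irreducibleComponent h1)
  intro x Z hZ Z' hZ' hx hx'
  rw [key x Z hZ hx, key x Z' hZ' hx']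

/-- equal finite numbers of irreducible and connected components: every point has an open
irreducible neighbourhood -/
theorem exists_open_irreducible_nhd (hfin : (irreducibleComponents α).Finite)
    (hcard : Nat.card ↥(irreducibleComponents α) = Nat.card (ConnectedComponents α)) (x : α) :
    ∃ C : Set α, IsOpen C ∧ IsIrreducible C ∧ x ∈ C :=
  ⟨irreducibleComponent x,
    (isClopen_of_disjoint hfin (uniq_of_card_eq hfin hcard) _
      (irreducibleComponent_mem_irreducibleComponents x)).2,
    isIrreducible_irreducibleComponent, mem_irreducibleComponent⟩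

end Top

section Scheme

variable {k : Type u} [Field k] {X : Scheme.{u}} (f : X ⟶ Spec (CommRingCat.of k))

theorem isNoetherian_bc [LocallyOfFiniteType f] [QuasiCompact f] (K : Type u) [Field K]
    [Algebra k K] : IsNoetherian (FBase.bc f K) := by
  haveI : LocallyOfFiniteType (FBase.bcStr f K) :=
    MorphismProperty.of_isPullback (P := @LocallyOfFiniteType)
      (IsPullback.of_hasPullback f (Spec.map (CommRingCat.ofHom (algebraMap k K)))) inferInstance
  haveI : QuasiCompact (FBase.bcStr f K) :=
    MorphismProperty.of_isPullback (P := @QuasiCompact)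
      (IsPullback.of_hasPullback f (Spec.map (CommRingCat.ofHom (algebraMap k K)))) inferInstance
  haveI : IsLocallyNoetherian (FBase.bc f K) :=
    LocallyOfFiniteType.isLocallyNoetherian (FBase.bcStr f K)
  haveI : CompactSpace ↥(FBase.bc f K) :=
    QuasiCompact.compactSpace_of_compactSpace (FBase.bcStr f K)
  exact {}

theorem geometricallyReduced_of_forall (h : ∀ x : X, FBase.IsGeomPtIntegralAt f x) :
    GeometricallyReduced f := by
  refine ⟨fun K _ y Z fst snd hpb => ?_⟩
  rw [← Spec.map_preimage y] at hpb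
  haveI : ∀ z : Z, _root_.IsReduced (Z.presheaf.stalk z) := fun z => by
    haveI := Groth.Agent.Lib.Helper4.UniComp1.isDomain_stalk_of_isGeomPtIntegralAt f
      (Spec.preimage y) fst snd hpb z (h _)
    infer_instance
  exact isReduced_of_isReduced_stalk Z

theorem card_eq_of_forall [LocallyOfFiniteType f] [QuasiCompact f] (Ω : Type u) [Field Ω]
    [Algebra k Ω] (h : ∀ x : X, FBase.IsGeomPtIntegralAt f x) :
    Nat.card ↥(irreducibleComponents ↥(FBase.bc f Ω)) =
      Nat.card (_root_.ConnectedComponents ↥(FBase.bc f Ω)) := by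
  haveI := isNoetherian_bc f Ω
  have hdom : ∀ w : ↥(FBase.bc f Ω), IsDomain ((FBase.bc f Ω).presheaf.stalk w) := fun w =>
    Groth.Agent.Lib.Helper4.UniComp1.isDomain_stalk_of_isGeomPtIntegralAt f
      (CommRingCat.ofHom (algebraMap k Ω)) (FBase.bcπ f Ω) (FBase.bcStr f Ω)
      (IsPullback.of_hasPullback _ _) w (h _)
  obtain ⟨-, h2⟩ := Groth.Agent.Lib.Helper4.IrrCompDomain1.main (FBase.bc f Ω) hdom
  refine card_eq_of_disjoint NoetherianSpace.finite_irreducibleComponents ?_
  intro x Z hZ Z' hZ' hx hx'
  obtain ⟨Z₀, -, hu⟩ := h2 x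
  rw [hu Z ⟨hZ, hx⟩, hu Z' ⟨hZ', hx'⟩]

theorem isDomain_stalk_of_open_irreducible {Y : Scheme.{u}} [IsReduced Y] (U : Y.Opens)
    (hU : IsIrreducible (U : Set Y)) (u : U) : IsDomain (Y.presheaf.stalk (U.ι u)) := by
  haveI : IrreducibleSpace ↥(U : Scheme.{u}) := Subtype.irreducibleSpace hU
  haveI : IsIntegral (U : Scheme.{u}) := isIntegral_of_irreducibleSpace_of_isReduced _
  have hiso : IsIso (U.ι.stalkMap u) := inferInstance
  let E := (asIso (U.ι.stalkMap u)).commRingCatIsoToRingEquiv
  exact E.toMulEquiv.isDomain _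

theorem exists_common_ext (k K Ω : Type u) [Field k] [Field K] [Field Ω] [Algebra k K]
    [Algebra k Ω] :
    ∃ (L : Type u) (_ : Field L) (_ : IsAlgClosed L) (a : K →+* L) (b : Ω →+* L),
      a.comp (algebraMap k K) = b.comp (algebraMap k Ω) := by
  haveI : Nontrivial (K ⊗[k] Ω) :=
    Algebra.TensorProduct.nontrivial_of_algebraMap_injective_of_flat_left k K Ω
      (algebraMap k Ω).injective
  obtain ⟨𝔪, h𝔪⟩ := Ideal.exists_maximal (K ⊗[k] Ω)
  letI : Field ((K ⊗[k] Ω) ⧸ 𝔪) := Ideal.Quotient.field 𝔪
  refine ⟨AlgebraicClosure ((K ⊗[k] Ω) ⧸ 𝔪), inferInstance, inferInstance,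
    (algebraMap ((K ⊗[k] Ω) ⧸ 𝔪) (AlgebraicClosure ((K ⊗[k] Ω) ⧸ 𝔪))).comp
      ((Ideal.Quotient.mk 𝔪).comp Algebra.TensorProduct.includeLeftRingHom),
    (algebraMap ((K ⊗[k] Ω) ⧸ 𝔪) (AlgebraicClosure ((K ⊗[k] Ω) ⧸ 𝔪))).comp
      ((Ideal.Quotient.mk 𝔪).comp
        (Algebra.TensorProduct.includeRight (R := k) (A := K) (B := Ω)).toRingHom), ?_⟩
  ext c
  simp only [RingHom.comp_apply]
  congr 2
  show (algebraMap k K c) ⊗ₜ[k] (1 : Ω) = (1 : K) ⊗ₜ[k] (algebraMap k Ω c)
  rw [Algebra.algebraMap_eq_smul_one, Algebra.algebraMap_eq_smul_one, TensorProduct.smul_tmul]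

theorem isDomain_stalk_bc (Ω : Type u) [Field Ω] [Algebra k Ω] [IsAlgClosed Ω]
    [GeometricallyReduced f]
    (hopen : ∀ w : ↥(FBase.bc f Ω), ∃ C : Set ↥(FBase.bc f Ω), IsOpen C ∧ IsIrreducible C ∧ w ∈ C)
    (K : Type u) [Field K] [Algebra k K] (x' : ↥(FBase.bc f K)) :
    IsDomain ((FBase.bc f K).presheaf.stalk x') := by
  obtain ⟨L, _, _, a, b, hab⟩ := exists_common_ext k K Ω
  letI : Algebra Ω L := b.toAlgebra
  have sq1 : IsPullback (FBase.bcπ (FBase.bcStr f Ω) L) (FBase.bcStr (FBase.bcStr f Ω) L)
      (FBase.bcStr f Ω) (Spec.map (CommRingCat.ofHom (algebraMap Ω L))) :=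
    IsPullback.of_hasPullback _ _
  have sq2 : IsPullback (FBase.bcπ f Ω) (FBase.bcStr f Ω) f
      (Spec.map (CommRingCat.ofHom (algebraMap k Ω))) := IsPullback.of_hasPullback _ _
  have big := sq1.paste_horiz sq2
  have hcomp : Spec.map (CommRingCat.ofHom (algebraMap Ω L)) ≫
      Spec.map (CommRingCat.ofHom (algebraMap k Ω)) =
      Spec.map (CommRingCat.ofHom a) ≫ Spec.map (CommRingCat.ofHom (algebraMap k K)) := by
    rw [← Spec.map_comp, ← Spec.map_comp, ← CommRingCat.ofHom_comp, ← CommRingCat.ofHom_comp]
    congr 2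
    exact hab.symm
  rw [hcomp] at big
  obtain ⟨σ, hσ⟩ : ∃ σ : FBase.bc (FBase.bcStr f Ω) L ⟶ FBase.bc f K,
      IsPullback σ (FBase.bcStr (FBase.bcStr f Ω) L)
        (pullback.snd f (Spec.map (CommRingCat.ofHom (algebraMap k K))))
        (Spec.map (CommRingCat.ofHom a)) :=
    ⟨_, IsPullback.of_right' big
      (IsPullback.of_hasPullback f (Spec.map (CommRingCat.ofHom (algebraMap k K))))⟩
  haveI : Flat (Spec.map (CommRingCat.ofHom a)) := by
    rw [Flat.SpecMap_iff]
    exact RingHom.Flat.of_isField (Field.toIsField K) _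
  haveI : Surjective (Spec.map (CommRingCat.ofHom a)) :=
    ⟨fun y => ⟨IsLocalRing.closedPoint L, Subsingleton.elim (α := PrimeSpectrum K) _ _⟩⟩
  haveI : Flat σ := MorphismProperty.of_isPullback (P := @Flat) hσ.flip inferInstance
  haveI : Surjective σ := MorphismProperty.of_isPullback (P := @Surjective) hσ.flip inferInstance
  obtain ⟨w, rfl⟩ := σ.surjective x'
  haveI : IsReduced (FBase.bc (FBase.bcStr f Ω) L) :=
    (GeometricallyReduced.geometrically_isReduced (f := f))
      (Spec.map (CommRingCat.ofHom a) ≫ Spec.map (CommRingCat.ofHom (algebraMap k K)))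
      (FBase.bcπ (FBase.bcStr f Ω) L ≫ FBase.bcπ f Ω) (FBase.bcStr (FBase.bcStr f Ω) L) big
  obtain ⟨C, hCo, hCi, hwC⟩ := hopen ((FBase.bcπ (FBase.bcStr f Ω) L) w)
  let U : (FBase.bc (FBase.bcStr f Ω) L).Opens :=
    ⟨(FBase.bcπ (FBase.bcStr f Ω) L).base ⁻¹' C,
      hCo.preimage (FBase.bcπ (FBase.bcStr f Ω) L).continuous⟩
  have hU : IsIrreducible (U : Set ↥(FBase.bc (FBase.bcStr f Ω) L)) :=
    Groth.Agent.S2531.result (FBase.bcStr f Ω) hCi
  have hdom : IsDomain ((FBase.bc (FBase.bcStr f Ω) L).presheaf.stalk w) :=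
    isDomain_stalk_of_open_irreducible U hU ⟨w, hwC⟩
  letI := (σ.stalkMap w).hom.toAlgebra
  haveI : IsLocalHom (algebraMap ((FBase.bc f K).presheaf.stalk (σ w))
      ((FBase.bc (FBase.bcStr f Ω) L).presheaf.stalk w)) :=
    inferInstanceAs (IsLocalHom (σ.stalkMap w).hom)
  haveI : Module.Flat ((FBase.bc f K).presheaf.stalk (σ w))
      ((FBase.bc (FBase.bcStr f Ω) L).presheaf.stalk w) := Flat.stalkMap σ w
  haveI : Module.FaithfullyFlat ((FBase.bc f K).presheaf.stalk (σ w))
      ((FBase.bc (FBase.bcStr f Ω) L).presheaf.stalk w) :=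
    Module.FaithfullyFlat.of_flat_of_isLocalHom
  exact Function.Injective.isDomain (algebraMap ((FBase.bc f K).presheaf.stalk (σ w))
      ((FBase.bc (FBase.bcStr f Ω) L).presheaf.stalk w)) (FaithfulSMul.algebraMap_injective _ _)

theorem main (Ω : Type u) [Field Ω] [Algebra k Ω] [IsAlgClosed Ω] [LocallyOfFiniteType f]
    [QuasiCompact f] :
    (∀ x : X, FBase.IsGeomPtIntegralAt f x) ↔
      (GeometricallyReduced f ∧
        Nat.card ↥(irreducibleComponents ↥(FBase.bc f Ω)) =
          Nat.card (_root_.ConnectedComponents ↥(FBase.bc f Ω))) := by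
  constructor
  · intro h
    exact ⟨geometricallyReduced_of_forall f h, card_eq_of_forall f Ω h⟩
  · rintro ⟨hred, hcard⟩ x K _ _ x' hx'
    haveI := isNoetherian_bc f Ω
    exact isDomain_stalk_bc f Ω (fun w => exists_open_irreducible_nhd
      NoetherianSpace.finite_irreducibleComponents hcard w) K x'

end Scheme

end Groth.Agent.Helper7.IrrConn
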